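import Groth.Agent.Lib.Lambda.ChernChar

/-!
# The grading of `ℚGr K` as a ring homomorphism into polynomials
-/

universe v

open scoped TensorProduct
open Finset

set_option backward.isDefEq.respectTransparency false
set_option backward.isDefEq.respectTransparency.types false

namespace Groth.Agent.ToddTop12

open Groth.Agent.Lambda
open LambdaRing (LambdaOps gammaFiltration PosStructure)

variable {K : Type v} [CommRing K] [LambdaOps K] (P : PosStructure K)

lemma sym_one : sym P 0 ⟨1, mem_filtration_zero 1⟩ = 1 := by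
  show Ideal.Quotient.mk _ _ = 1
  rw [← map_one (Ideal.Quotient.mk (Ideal.span {KGr.tGen P}))]
  exact congrArg _ (Subtype.ext (by simp [LaurentPolynomial.T_zero]))

/-- Polynomials whose coefficient in degree `n` is a class of degree `n`. -/
noncomputable def homogRing : Subring (Polynomial (KGr.GrZ P)) where
  carrier := {p | ∀ n, p.coeff n ∈ (sym P n).range}
  zero_mem' n := by simp
  add_mem' hp hq n := by rw [Polynomial.coeff_add]; exact add_mem (hp n) (hq n)
  neg_mem' hp n := by rw [Polynomial.coeff_neg]; exact neg_mem (hp n)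
  one_mem' n := by
    rcases eq_or_ne n 0 with rfl | h
    · exact ⟨⟨1, mem_filtration_zero 1⟩, by simpa using sym_one P⟩
    · simp [Polynomial.coeff_one, h]
  mul_mem' {p q} hp hq n := by
    rw [Polynomial.coeff_mul]
    refine sum_mem fun a ha => ?_
    rw [Finset.mem_antidiagonal] at ha
    obtain ⟨x, hx⟩ := hp a.1
    obtain ⟨y, hy⟩ := hq a.2
    subst ha
    rw [← hx, ← hy, sym_mul]
    exact ⟨_, rfl⟩

/-- Evaluation at one. -/
noncomputable def evalOne : homogRing P →+* KGr.GrZ P :=
  (Polynomial.evalRingHom 1).comp (homogRing P).subtype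

lemma monomial_mem (n : ℕ) (x : gammaFiltration P n) :
    Polynomial.monomial n (sym P n x) ∈ homogRing P := fun j => by
  rw [Polynomial.coeff_monomial]
  split_ifs with h
  · subst h; exact ⟨x, rfl⟩
  · exact zero_mem _

lemma evalOne_bijective : Function.Bijective (evalOne P) := by
  constructor
  · rw [injective_iff_map_eq_zero]
    intro p hp
    refine Subtype.ext (Polynomial.ext fun n => ?_)
    simp only [ZeroMemClass.coe_zero, Polynomial.coeff_zero]
    obtain ⟨x, hx⟩ := p.2 n
    rw [← hx]
    refine sym_eq_zero P ((QuotientAddGroup.eq_zero_iff _).1 ?_)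
    have h : comp P n ((p.1).eval 1) = 0 := by
      rw [show p.1.eval 1 = evalOne P p from rfl, hp, map_zero]
    rw [Polynomial.eval_eq_sum, Polynomial.sum] at h
    simp only [one_pow, mul_one, map_sum] at h
    rw [Finset.sum_eq_single n] at h
    · rw [← hx, comp_sym, if_pos rfl] at h; exact h
    · intro j _ hj
      obtain ⟨y, hy⟩ := p.2 j
      rw [← hy, comp_sym, if_neg hj]
    · intro hn
      rw [Polynomial.notMem_support_iff.1 hn, map_zero]
  · intro z
    have hz : z ∈ AddSubgroup.closure {z | ∃ (n : ℕ) (x : gammaFiltration P n), sym P n x = z} := by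
      rw [closure_sym_eq_top]; trivial
    induction hz using AddSubgroup.closure_induction with
    | mem z hz =>
      obtain ⟨n, x, rfl⟩ := hz
      exact ⟨⟨_, monomial_mem P n x⟩, by simp [evalOne]⟩
    | zero => exact ⟨0, map_zero _⟩
    | add a b _ _ ha hb =>
      obtain ⟨p, rfl⟩ := ha; obtain ⟨q, rfl⟩ := hb
      exact ⟨p + q, map_add _ _ _⟩
    | neg a _ ha =>
      obtain ⟨p, rfl⟩ := ha
      exact ⟨-p, map_neg _ _⟩

/-- The grading on `Gr K`. -/
noncomputable def gradeZ : KGr.GrZ P →+* Polynomial (KGr.GrZ P) :=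
  (homogRing P).subtype.comp (RingEquiv.ofBijective _ (evalOne_bijective P)).symm.toRingHom

lemma gradeZ_sym (n : ℕ) (x : gammaFiltration P n) :
    gradeZ P (sym P n x) = Polynomial.monomial n (sym P n x) := by
  have h : (RingEquiv.ofBijective _ (evalOne_bijective P)).symm (sym P n x) = ⟨_, monomial_mem P n x⟩ := by
    rw [RingEquiv.symm_apply_eq]
    show sym P n x = evalOne P _
    simp [evalOne]
  exact congrArg Subtype.val h

lemma eval_gradeZ (z : KGr.GrZ P) : (gradeZ P z).eval 1 = z :=
  (RingEquiv.ofBijective _ (evalOne_bijective P)).apply_symm_apply z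

lemma coeff_gradeZ_eq_zero (d : ℕ) (hd : gammaFiltration P (d + 1) = ⊥) (z : KGr.GrZ P) (n : ℕ) (hn : d < n) :
    (gradeZ P z).coeff n = 0 := by
  obtain ⟨x, hx⟩ := ((RingEquiv.ofBijective _ (evalOne_bijective P)).symm z).2 n
  have h0 : x.1 = 0 := by
    have := gammaFiltration_anti P (show d + 1 ≤ n by omega) x.2
    rwa [hd, AddSubgroup.mem_bot] at this
  show Polynomial.coeff ((RingEquiv.ofBijective _ (evalOne_bijective P)).symm z).1 n = 0
  rw [← hx, sym_eq_zero P (by rw [h0]; exact zero_mem _)]

variable {B : Type*} [CommRing B] (ι : KGr.Gr P →+* B)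

/-- The grading on `ℚGr K`, after a base change `ι`. -/
noncomputable def grade : KGr.Gr P →+* Polynomial B :=
  (Algebra.TensorProduct.productMap
    (Polynomial.C.comp (ι.comp (Algebra.TensorProduct.includeLeftRingHom : ℚ →+* KGr.Gr P))).toIntAlgHom
    (((Polynomial.mapRingHom (ι.comp
      (Algebra.TensorProduct.includeRight : KGr.GrZ P →ₐ[ℤ] KGr.Gr P).toRingHom)).comp
      (gradeZ P)).toIntAlgHom)).toRingHom

lemma grade_tmul (q : ℚ) (z : KGr.GrZ P) :
    grade P ι (q ⊗ₜ[ℤ] z) = Polynomial.C (ι (q ⊗ₜ[ℤ] (1 : KGr.GrZ P))) *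
      (gradeZ P z).map (ι.comp (Algebra.TensorProduct.includeRight : KGr.GrZ P →ₐ[ℤ] KGr.Gr P).toRingHom) :=
  Algebra.TensorProduct.productMap_apply_tmul _ _ _ _

lemma grade_G (n : ℕ) {x : K} (hx : x ∈ gammaFiltration P n) :
    grade P ι (G P n x) = Polynomial.monomial n (ι (G P n x)) := by
  rw [G, grK_eq P hx, grade_tmul, gradeZ_sym, Polynomial.map_monomial, ← Algebra.TensorProduct.one_def,
    map_one, map_one, one_mul]
  rfl

lemma eval_grade (r : KGr.Gr P) : (grade P ι r).eval 1 = ι r := by
  induction r using TensorProduct.induction_on with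
  | zero => simp
  | tmul q z =>
    rw [grade_tmul, Polynomial.eval_mul, Polynomial.eval_C, Polynomial.eval_one_map, eval_gradeZ,
      RingHom.comp_apply, ← map_mul]
    congr 1
    simp
  | add a b ha hb => rw [(grade P ι).map_add, Polynomial.eval_add, ha, hb, ι.map_add]

lemma coeff_grade_eq_zero (d : ℕ) (hd : gammaFiltration P (d + 1) = ⊥) (r : KGr.Gr P) (n : ℕ) (hn : d < n) :
    (grade P ι r).coeff n = 0 := by
  induction r using TensorProduct.induction_on with
  | zero => simp
  | tmul q z =>
    rw [grade_tmul, Polynomial.coeff_C_mul, Polynomial.coeff_map,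
      coeff_gradeZ_eq_zero P d hd z n hn, map_zero, mul_zero]
  | add a b ha hb => rw [(grade P ι).map_add, Polynomial.coeff_add, ha, hb, add_zero]

end Groth.Agent.ToddTop12
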