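import Groth.Agent.Lib.ToddTop12.Grading
import Groth.Agent.Lib.ChernMul23.Basic
import Groth.Agent.Lib.Lambda.Inv
import Mathlib.RingTheory.Polynomial.Vieta
import Mathlib.RingTheory.PowerSeries.Exp
import Mathlib.Algebra.Algebra.Hom.Rat

/-!
# `td(e) · ch(λ_{-1}(e^∨)) = c_top(e)`

The identity is checked after adjoining Chern roots `w i` to `ℚGr K` and a degree variable `T`,
modulo `T^(d+1)`.
-/

set_option backward.isDefEq.respectTransparency false
set_option backward.isDefEq.respectTransparency.types false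
set_option synthInstance.maxHeartbeats 200000
set_option maxHeartbeats 1600000
set_option linter.style.haveILetI false
set_option linter.unusedSectionVars false

universe v

open scoped TensorProduct
open Finset

namespace Groth.Agent.ToddTop12

open Groth.Agent.Lambda Groth.Agent.ChernMul23
open LambdaRing (LambdaOps adamsOp gamma gammaFiltration PosStructure HasSplitting)

section Algebra

lemma rat_map_aeval {σ : Type*} {R S : Type*} [CommRing R] [CommRing S] [Algebra ℚ R] [Algebra ℚ S]
    (φ : R →+* S) (c : σ → R) (p : MvPolynomial σ ℚ) :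
    φ (MvPolynomial.aeval c p) = MvPolynomial.aeval (fun i => φ (c i)) p :=
  MvPolynomial.comp_aeval_apply c φ.toRatAlgHom p

lemma rat_map_algebraMap {R S : Type*} [CommRing R] [CommRing S] [Algebra ℚ R] [Algebra ℚ S]
    (φ : R →+* S) (q : ℚ) : φ (algebraMap ℚ R q) = algebraMap ℚ S q :=
  φ.toRatAlgHom.commutes q

lemma rat_map_smul {R S : Type*} [CommRing R] [CommRing S] [Algebra ℚ R] [Algebra ℚ S]
    (φ : R →+* S) (q : ℚ) (x : R) : φ (q • x) = algebraMap ℚ S q * φ x := by
  rw [Algebra.smul_def, map_mul, rat_map_algebraMap]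

lemma sum_choose_pow_sub_one {R : Type*} [CommRing R] (a : ℕ) (y : R) :
    ∑ k ∈ range (a + 1), ((-1) ^ k * ((a + 1).choose (k + 1) : R)) * (y ^ (k + 1) - 1) =
      (-1) ^ a * (y - 1) ^ (a + 1) := by
  have key : ∀ z : R, ∑ k ∈ range (a + 1), ((-1) ^ k * ((a + 1).choose (k + 1) : R)) * z ^ (k + 1) =
      1 - (1 - z) ^ (a + 1) := by
    intro z
    have h := add_pow (-z) 1 (a + 1)
    rw [Finset.sum_range_succ'] at h
    simp only [one_pow, mul_one, pow_zero, one_mul, Nat.choose_zero_right, Nat.cast_one] at h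
    rw [show (1 - z) = -z + 1 by ring, h, sub_add_eq_sub_sub, sub_right_comm, sub_self, zero_sub,
      ← Finset.sum_neg_distrib]
    refine Finset.sum_congr rfl fun k _ => ?_
    rw [neg_pow z, pow_succ]
    ring
  have k1 := key 1
  simp only [sub_self, zero_pow (Nat.succ_ne_zero a), sub_zero, one_pow, mul_one] at k1
  simp only [mul_sub, Finset.sum_sub_distrib, mul_one]
  rw [key, k1, sub_sub_cancel_left, show (1 - y) = -(y - 1) by ring, neg_pow, pow_succ]
  ring

variable {B : Type*} [CommRing B] (d : ℕ)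

/-- Power series modulo `T^(d+1)`. -/
abbrev TQ (B : Type*) [CommRing B] (d : ℕ) :=
  PowerSeries B ⧸ Ideal.span {(PowerSeries.X : PowerSeries B) ^ (d + 1)}

/-- The projection. -/
noncomputable abbrev tq : PowerSeries B →+* TQ B d := Ideal.Quotient.mk _

lemma tq_eq_iff {f g : PowerSeries B} :
    tq d f = tq d g ↔ ∀ n ≤ d, PowerSeries.coeff n f = PowerSeries.coeff n g := by
  rw [Ideal.Quotient.mk_eq_mk_iff_sub_mem, Ideal.mem_span_singleton, PowerSeries.X_pow_dvd_iff]
  simp only [map_sub, sub_eq_zero, Nat.lt_succ_iff]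

lemma tq_trunc (f : PowerSeries B) :
    tq d f = ∑ n ∈ range (d + 1), tq d (PowerSeries.C (PowerSeries.coeff n f) * PowerSeries.X ^ n) := by
  rw [← map_sum, tq_eq_iff]
  intro n hn
  rw [map_sum, Finset.sum_eq_single n]
  · simp
  · intro j _ hj
    simp [PowerSeries.coeff_X_pow, hj.symm]
  · intro h
    exact absurd (mem_range.2 (by omega)) h

lemma tq_rescale_congr (a : B) {f g : PowerSeries B} (h : tq d f = tq d g) :
    tq d (PowerSeries.rescale a f) = tq d (PowerSeries.rescale a g) := by
  rw [tq_eq_iff] at h ⊢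
  intro n hn
  rw [PowerSeries.coeff_rescale, PowerSeries.coeff_rescale, h n hn]

variable [Algebra ℚ B]

/-- The series `exp (w T)`. -/
noncomputable def expS (w : B) : PowerSeries B := PowerSeries.rescale w (PowerSeries.exp B)

/-- The series `β (w T)`. -/
noncomputable def toddS (w : B) : PowerSeries B := PowerSeries.rescale w (bernoulli'PowerSeries B)

/-- The root `w T`. -/
noncomputable def rootS (w : B) : TQ B d := tq d (PowerSeries.C w * PowerSeries.X)

lemma expS_pow (w : B) (j : ℕ) : expS w ^ j = PowerSeries.rescale (j : B) (expS w) := by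
  rw [expS, ← map_pow, PowerSeries.exp_pow_eq_rescale_exp, PowerSeries.rescale_rescale,
    PowerSeries.rescale_rescale, mul_comm]

lemma toddS_mul (w : B) : toddS w * (expS w - 1) = PowerSeries.C w * PowerSeries.X * expS w := by
  rw [toddS, expS, ← map_one (PowerSeries.rescale w), ← map_sub, ← map_mul,
    bernoulli'PowerSeries_mul_exp_sub_one, map_mul, PowerSeries.rescale_X]

lemma isUnit_tq_expS (w : B) : IsUnit (tq d (expS w)) := by
  refine (IsUnit.map (PowerSeries.rescale w) ?_).map (tq d)
  rw [PowerSeries.isUnit_iff_constantCoeff, PowerSeries.constantCoeff_exp]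
  exact isUnit_one

lemma smul_rootS_pow (q : ℚ) (w : B) (n : ℕ) :
    q • rootS d w ^ n = tq d (PowerSeries.C (algebraMap ℚ B q * w ^ n) * PowerSeries.X ^ n) := by
  rw [rootS, ← map_pow]
  refine (Algebra.smul_def (R := ℚ) (A := TQ B d) q _).trans ?_
  rw [← rat_map_algebraMap ((tq d).comp PowerSeries.C) q,
    RingHom.comp_apply, ← map_mul, mul_pow, ← map_pow, ← mul_assoc, ← map_mul]

lemma tq_expS (w : B) :
    tq d (expS w) = 1 + ∑ a ∈ range d, (1 / ((a + 1).factorial : ℚ)) • rootS d w ^ (a + 1) := by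
  rw [tq_trunc, Finset.sum_range_succ', add_comm]
  congr 1
  · simp [expS]
  · refine Finset.sum_congr rfl fun a _ => ?_
    rw [smul_rootS_pow, expS, PowerSeries.coeff_rescale, PowerSeries.coeff_exp, mul_comm (algebraMap ℚ B _)]

lemma aeval_toddTrunc (w : B) : Polynomial.aeval (rootS d w) (KGr.toddTrunc d) = tq d (toddS w) := by
  rw [tq_trunc, KGr.toddTrunc, map_sum]
  refine Finset.sum_congr rfl fun k _ => ?_
  rw [map_mul, Polynomial.aeval_C, map_pow, Polynomial.aeval_X, ← Algebra.smul_def, smul_rootS_pow, toddS,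
    PowerSeries.coeff_rescale, bernoulli'PowerSeries, PowerSeries.coeff_mk, mul_comm (algebraMap ℚ B _)]

lemma aeval_toddTrunc_zero : Polynomial.aeval (0 : TQ B d) (KGr.toddTrunc d) = 1 := by
  rw [KGr.toddTrunc, map_sum, Finset.sum_eq_single 0]
  · simp
  · intro k _ hk
    simp [zero_pow hk]
  · simp

lemma esymm_rootS {m : ℕ} (w : Fin m → B) (n : ℕ) :
    ((univ : Finset (Fin m)).val.map fun i => rootS d (w i)).esymm n =
      tq d (PowerSeries.C (((univ : Finset (Fin m)).val.map w).esymm n) * PowerSeries.X ^ n) := by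
  rw [Finset.esymm_map_val, Finset.esymm_map_val, map_sum (PowerSeries.C : B →+* PowerSeries B), Finset.sum_mul,
    map_sum]
  refine Finset.sum_congr rfl fun t ht => ?_
  rw [map_prod (PowerSeries.C : B →+* PowerSeries B), ← (Finset.mem_powersetCard.1 ht).2, ← Finset.prod_const,
    ← Finset.prod_mul_distrib, map_prod]
  rfl

lemma aeval_toddPoly {m : ℕ} (hm : m ≤ d) (w : Fin m → B) (c : Fin d → TQ B d)
    (hc : ∀ i : Fin d, c i = ((univ : Finset (Fin m)).val.map fun j => rootS d (w j)).esymm (i + 1)) :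
    MvPolynomial.aeval c (KGr.toddPoly d) = ∏ i, tq d (toddS (w i)) := by
  obtain ⟨r, hr⟩ := Nat.exists_eq_add_of_le hm
  let v : Fin d → TQ B d := fun i => Fin.append (fun j => rootS d (w j)) (fun _ : Fin r => 0) (i.cast hr)
  have hv : ∀ i : Fin d, c i = MvPolynomial.aeval v (MvPolynomial.esymm (Fin d) ℚ (i + 1)) := by
    intro i
    rw [hc, MvPolynomial.aeval_esymm_eq_multiset_esymm, esymm_map_eq_E, esymm_map_eq_E]
    refine E_congr _ fun k hk _ => ?_
    rw [← Equiv.sum_comp (finCongr hr.symm) (fun j => v j ^ k), Fin.sum_univ_add]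
    simp [v, zero_pow (show k ≠ 0 by omega)]
  have htd : MvPolynomial.aeval (fun i : Fin d => MvPolynomial.esymm (Fin d) ℚ (i + 1)) (KGr.toddPoly d) =
      ∏ i : Fin d, Polynomial.aeval (MvPolynomial.X i) (KGr.toddTrunc d) := by
    have h := congrArg Subtype.val ((MvPolynomial.esymmAlgEquiv (Fin d) ℚ (Fintype.card_fin d)).apply_symm_apply
      ⟨∏ i : Fin d, Polynomial.aeval (MvPolynomial.X i) (KGr.toddTrunc d),
        KGr.isSymmetric_prod_aeval d (KGr.toddTrunc d)⟩)
    refine Eq.trans ?_ h
    exact (MvPolynomial.esymmAlgHom_apply _).symm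
  rw [funext hv, ← MvPolynomial.comp_aeval_apply, htd, map_prod]
  simp only [← Polynomial.aeval_algHom_apply, MvPolynomial.aeval_X]
  rw [← Equiv.prod_comp (finCongr hr.symm) (fun j => Polynomial.aeval (v j) (KGr.toddTrunc d)), Fin.prod_univ_add]
  simp [v, aeval_toddTrunc, aeval_toddTrunc_zero]

end Algebra

section Roots

/-- Adjoining roots with prescribed elementary symmetric functions. -/
theorem exists_roots {R : Type v} [CommRing R] [Nontrivial R] [Algebra ℚ R] (m : ℕ) (c : ℕ → R) :
    ∃ (B : Type v) (_ : CommRing B) (_ : Algebra ℚ B) (ι : R →+* B) (w : Fin m → B),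
      Function.Injective ι ∧
        ∀ n, 1 ≤ n → n ≤ m → ((univ : Finset (Fin m)).val.map w).esymm n = ι (c n) := by
  classical
  let g : Polynomial R := ∑ j ∈ range m, Polynomial.C ((-1) ^ (m - j) * c (m - j)) * Polynomial.X ^ j
  let p : Polynomial R := Polynomial.X ^ m + g
  have hg : g.degree < m := by
    refine (Polynomial.degree_sum_le _ _).trans_lt
      ((Finset.sup_lt_iff (WithBot.bot_lt_coe m)).2 fun j hj => ?_)
    exact (Polynomial.degree_C_mul_X_pow_le j _).trans_lt (WithBot.coe_lt_coe.2 (mem_range.1 hj))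
  have hp : p.Monic := Polynomial.monic_X_pow_add hg
  have hdeg : p.natDegree = m := by
    apply Polynomial.natDegree_eq_of_degree_eq_some
    rw [Polynomial.degree_add_eq_left_of_degree_lt (by rwa [Polynomial.degree_X_pow]), Polynomial.degree_X_pow]
  obtain ⟨B, _, _, _, _, _, hs⟩ := hp.exists_splits_map
  obtain ⟨s, hs'⟩ := Polynomial.splits_iff_exists_multiset.1 hs
  rw [(hp.map (algebraMap R B)).leadingCoeff, map_one, one_mul] at hs'
  have hcard : Multiset.card s = m := by
    rw [← hdeg, ← hp.natDegree_map (algebraMap R B), hs', Polynomial.natDegree_multiset_prod_X_sub_C_eq_card]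
  have hlen : s.toList.length = m := by rw [Multiset.length_toList, hcard]
  letI : Algebra ℚ B := ((algebraMap R B).comp (algebraMap ℚ R)).toAlgebra
  refine ⟨B, inferInstance, inferInstance, algebraMap R B, fun i => s.toList.get (i.cast hlen.symm),
    FaithfulSMul.algebraMap_injective R B, fun n hn1 hnm => ?_⟩
  have hmap : ((univ : Finset (Fin m)).val.map fun i => s.toList.get (i.cast hlen.symm)) = s := by
    have key : ∀ (l : List B) (h : m = l.length),
        ((univ : Finset (Fin m)).val.map fun i => l.get (i.cast h)) = ↑l := by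
      intro l h
      subst h
      simp [Fin.univ_val_map, List.ofFn_getElem]
    exact (key _ hlen.symm).trans (Multiset.coe_toList s)
  rw [hmap]
  have h := Polynomial.ext_iff.1 hs' (m - n)
  rw [Multiset.prod_X_sub_C_coeff s (by omega), Polynomial.coeff_map, hcard, Nat.sub_sub_self hnm] at h
  have hco : p.coeff (m - n) = (-1) ^ n * c n := by
    simp only [p, g, Polynomial.coeff_add, Polynomial.coeff_X_pow, Polynomial.finsetSum_coeff,
      Polynomial.coeff_C_mul]
    rw [if_neg (by omega), zero_add, Finset.sum_eq_single (m - n)]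
    · simp [Nat.sub_sub_self hnm]
    · intro j _ hj
      simp [hj.symm]
    · intro hh
      exact absurd (mem_range.2 (by omega)) hh
  rw [hco, map_mul, map_pow, map_neg, map_one] at h
  exact ((IsUnit.pow n (isUnit_one.neg)).mul_left_cancel h).symm

end Roots

section Main

variable {K : Type v} [CommRing K] [LambdaOps K] {P : PosStructure K}

lemma chClosed_intCast (d : ℕ) (c : ℤ) : chClosed P d (c : K) = (c : KGr.Gr P) := by
  simp only [chClosed, map_intCast, Int.cast_id, sub_self, D_zero]
  rw [Finset.sum_eq_zero fun a _ => by rw [G_eq_zero (zero_mem _), smul_zero], add_zero]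

lemma chClosed_natCast (d : ℕ) (c : ℕ) : chClosed P d (c : K) = (c : KGr.Gr P) := by
  exact_mod_cast chClosed_intCast (P := P) d c

/-- The `γ`-classes of a positive element vanish above its rank. -/
lemma gamma_eq_zero_of_gt {inv : K → K} (hS : LambdaRing.HasInvSplitting P inv) (e : K) (he : e ∈ P.pos)
    (n : ℕ) (hn : (P.aug e).toNat < n) : gamma n (e - ((P.aug e).toNat : K)) = 0 := by
  obtain ⟨L, inv', f, u, hf, -, hu, hsum, -⟩ := inv_split hS e he
  apply hf.injective
  rw [gamma_map f hf.isLambdaHom, map_sub, map_natCast, map_zero, ← hsum,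
    show (∑ a, u a - ((P.aug e).toNat : L.carrier)) = ∑ a, (u a - 1) by simp [Finset.sum_sub_distrib],
    gamma_sum_sub_card (pos_lam_one L.posStr) univ u (fun a _ j hj => line_lam L.posStr (hu a) j hj),
    Finset.powersetCard_eq_empty.2 (by simpa using hn), Finset.sum_empty]

/-- The determinant in terms of the `γ`-classes. -/
lemma lam_top_eq_sum_gamma {inv : K → K} (hS : LambdaRing.HasInvSplitting P inv) (e : K) (he : e ∈ P.pos) :
    LambdaOps.lam (P.aug e).toNat e =
      ∑ k ∈ range ((P.aug e).toNat + 1), gamma k (e - ((P.aug e).toNat : K)) := by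
  obtain ⟨L, inv', f, u, hf, -, hu, hsum, -⟩ := inv_split hS e he
  apply hf.injective
  rw [hf.isLambdaHom, map_sum, ← hsum, lam_top_lines L.posStr u hu]
  simp only [gamma_map f hf.isLambdaHom, map_sub, map_natCast, ← hsum]
  rw [show (∑ a, u a - ((P.aug e).toNat : L.carrier)) = ∑ a, (u a - 1) by simp [Finset.sum_sub_distrib],
    Finset.sum_congr rfl fun k _ =>
      gamma_sum_sub_card (pos_lam_one L.posStr) univ u (fun a _ j hj => line_lam L.posStr (hu a) j hj) k,
    show ∏ a, u a = ∏ a, (1 + (u a - 1)) by simp,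
    Finset.prod_one_add, Finset.powerset_card_disjiUnion, Finset.sum_disjiUnion,
    Finset.card_univ, Fintype.card_fin]

variable {B : Type v} [CommRing B] [Algebra ℚ B] (ι : KGr.Gr P →+* B) (d : ℕ)

/-- The graded value as a power series. -/
noncomputable def J : KGr.Gr P →+* PowerSeries B :=
  (Polynomial.coeToPowerSeries.ringHom).comp (grade P ι)

/-- The graded value modulo `T^(d+1)`. -/
noncomputable def Phi : KGr.Gr P →+* TQ B d := (tq d).comp (J ι)

lemma J_G (n : ℕ) {x : K} (hx : x ∈ gammaFiltration P n) :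
    J ι (G P n x) = PowerSeries.C (ι (G P n x)) * PowerSeries.X ^ n := by
  rw [J, RingHom.comp_apply, grade_G P ι n hx, ← PowerSeries.monomial_eq_C_mul_X_pow]
  exact Polynomial.coe_monomial n _

lemma Phi_injective (hι : Function.Injective ι) (hd : gammaFiltration P (d + 1) = ⊥) :
    Function.Injective (Phi ι d) := by
  rw [injective_iff_map_eq_zero]
  intro r hr
  have h0 : grade P ι r = 0 := by
    refine Polynomial.ext fun n => ?_
    rw [Polynomial.coeff_zero]
    by_cases hn : n ≤ d
    · have h := (tq_eq_iff d).1 (show tq d (J ι r) = tq d 0 by rw [map_zero]; exact hr) n hn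
      rw [map_zero] at h
      simpa [J] using h
    · exact coeff_grade_eq_zero P ι d hd r n (by omega)
  have := eval_grade P ι r
  rw [h0, Polynomial.eval_zero] at this
  exact hι (by rw [← this, map_zero])

variable (hK : HasSplitting K P)
include hK

lemma adamsOp_D (k : ℕ) (hk : 1 ≤ k) (a : ℕ) (x : K) : adamsOp k (D a x) = D a (adamsOp k x) := by
  let f : K →+* K := RingHom.mk' ⟨⟨adamsOp k, adamsOp_apply_one (pos_lam_one P) k hk⟩, adamsOp_map_mul hK k hk⟩
    (adamsOp_add k)
  change f (D a x) = _
  simp only [D, map_sum, map_mul, map_pow, map_neg, map_one, map_natCast]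
  refine Finset.sum_congr rfl fun l _ => congrArg _ ?_
  change adamsOp k (adamsOp (l + 1) x) = adamsOp (l + 1) (adamsOp k x)
  rw [← adams_eq_adamsOp P hk, ← adams_eq_adamsOp P hk, ← adams_eq_adamsOp P (show 1 ≤ l + 1 by omega),
    ← adams_eq_adamsOp P (show 1 ≤ l + 1 by omega), adams_adams hK, adams_adams hK, mul_comm]

lemma J_ch_adams (k : ℕ) (hk : 1 ≤ k) (x : K) :
    J ι (chClosed P d (adamsOp k x)) = PowerSeries.rescale (k : B) (J ι (chClosed P d x)) := by
  have hz : P.aug (x - (P.aug x : K)) = 0 := aug_sub_aug x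
  have e1 : adamsOp k x - (P.aug x : K) = adamsOp k (x - (P.aug x : K)) := by
    have h := adamsOp_add k (x - (P.aug x : K)) (P.aug x : K)
    rw [sub_add_cancel, adamsOp_intCast hK k hk] at h
    rw [h, add_sub_cancel_right]
  simp only [chClosed, aug_adamsOp hK k hk, e1, map_add, map_sum]
  rw [rat_map_algebraMap (R := KGr.Gr P) (J ι), rat_map_algebraMap (PowerSeries.rescale (k : B))]
  refine congrArg _ (Finset.sum_congr rfl fun a _ => ?_)
  refine (rat_map_smul (R := KGr.Gr P) (J ι) _ _).trans ?_
  refine Eq.trans ?_ (congrArg (PowerSeries.rescale (k : B)) (rat_map_smul (R := KGr.Gr P) (J ι) _ _)).symm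
  rw [map_mul, rat_map_algebraMap (PowerSeries.rescale (k : B))]
  refine congrArg _ ?_
  rw [← adamsOp_D hK k hk]
  have hy := D_mem hz a
  have h2 := adams_sub_mem hK k hk (a + 1) _ hy
  rw [adams_eq_adamsOp P hk, ← Nat.cast_pow] at h2
  rw [G_congr (mul_left_mem_gammaFiltration P _ _ _ hy) h2, G_natCast_mul _ hy, map_mul, map_natCast, J_G ι _ hy,
    map_mul, map_pow, PowerSeries.rescale_X, mul_pow, ← map_pow, Nat.cast_pow]
  rw [show PowerSeries.rescale (k : B) (PowerSeries.C (ι (G P (a + 1) (D a (x - (P.aug x : K)))))) =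
    PowerSeries.C (ι (G P (a + 1) (D a (x - (P.aug x : K))))) by
      ext n; rw [PowerSeries.coeff_rescale, PowerSeries.coeff_C]; rcases n with _ | n <;> simp]
  rw [map_pow, map_natCast]
  ring

lemma Phi_ch_adams (k : ℕ) (hk : 1 ≤ k) (x : K) {f : PowerSeries B} (hf : Phi ι d (chClosed P d x) = tq d f) :
    Phi ι d (chClosed P d (adamsOp k x)) = tq d (PowerSeries.rescale (k : B) f) := by
  rw [Phi, RingHom.comp_apply, J_ch_adams ι d hK k hk]
  exact tq_rescale_congr d _ hf

theorem main (hd : gammaFiltration P (d + 1) = ⊥) (inv : K → K) (hS : LambdaRing.HasInvSplitting P inv)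
    (hι : Function.Injective ι) (e : K) (he : e ∈ P.pos) (m : ℕ) (hm : (P.aug e).toNat = m) (hmd : m ≤ d)
    (w : Fin m → B)
    (hw : ∀ n, 1 ≤ n → n ≤ m → ((univ : Finset (Fin m)).val.map w).esymm n = ι (KGr.chern P n e)) :
    KGr.tdK P d e * KGr.chK P d (∑ i ∈ range (m + 1), (-1 : K) ^ i * LambdaOps.lam i (inv e)) =
      KGr.chern P m e := by
  have haug : P.aug e = (m : ℤ) := by rw [← hm, Int.toNat_of_nonneg (P.aug_pos e he).le]
  set z := e - (m : K) with hzdef
  have hz : P.aug z = 0 := by rw [hzdef, map_sub, map_natCast, haug, sub_self]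
  have hchern : ∀ n, KGr.chern P n e = G P n (gamma n z) := fun n => by
    rw [KGr.chern, haug, Int.cast_natCast]
  have hgt : ∀ n, m < n → gamma n z = 0 := fun n hn => by
    have := gamma_eq_zero_of_gt hS e he n (by rw [hm]; exact hn)
    rwa [hm] at this
  have hroot : ∀ n, 1 ≤ n → Phi ι d (KGr.chern P n e) =
      ((univ : Finset (Fin m)).val.map fun i => rootS d (w i)).esymm n := by
    intro n hn
    rw [esymm_rootS, hchern, Phi, RingHom.comp_apply, J_G ι n (gamma_mem hz n)]
    by_cases hnm : n ≤ m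
    · rw [hw n hn hnm, hchern]
    · rw [hgt n (by omega), G_eq_zero (zero_mem _), map_zero, Finset.esymm_map_val,
        Finset.powersetCard_eq_empty.2 (by simpa using show m < n by omega), Finset.sum_empty]
  -- the Chern character of `e`
  have che : Phi ι d (chClosed P d e) = tq d (∑ i, expS (w i)) := by
    rw [← chK_eq, KGr.chK, map_add, rat_map_algebraMap (R := KGr.Gr P) (Phi ι d),
      rat_map_aeval (R := KGr.Gr P) (Phi ι d),
      aeval_chPoly _ (fun k => ∑ i, rootS d (w i) ^ k) (fun n hn => ?_), haug, map_sum,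
      Finset.sum_congr rfl fun i _ => tq_expS d (w i), Finset.sum_add_distrib, ← add_assoc, ← map_add,
      sub_add_cancel, Finset.sum_comm (s := univ)]
    · congr 1
      · simp
      · exact Finset.sum_congr rfl fun a _ => Finset.smul_sum
    · rcases Nat.eq_zero_or_pos n with rfl | hn0
      · simp [extSeq, E_zero]
      · rw [← esymm_map_eq_E, extSeq, if_neg hn0.ne', dif_pos (by omega),
          ← hroot n hn0]
        show Phi ι d (KGr.chern P (n - 1 + 1) e) = _
        rw [Nat.sub_add_cancel hn0]
  set y : Fin m → TQ B d := fun i => tq d (expS (w i)) with hy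
  let ch : K →+ TQ B d := AddMonoidHom.mk' (fun x => Phi ι d (chClosed P d x))
    (fun a b => by rw [chClosed_add, map_add])
  have chmul : ∀ a b, ch (a * b) = ch a * ch b := fun a b => by
    show Phi ι d _ = Phi ι d _ * Phi ι d _
    rw [chClosed_mul hK d hd, map_mul]
  have chnat : ∀ c : ℕ, ch (c : K) = (c : TQ B d) := fun c => by
    show Phi ι d _ = _
    rw [chClosed_natCast, map_natCast]
  have chadams : ∀ j, 1 ≤ j → ch (adamsOp j z) = ∑ i, (y i ^ j - 1) := by
    intro j hj
    have ez : adamsOp j z = adamsOp j e - ((m : ℤ) : K) := by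
      rw [eq_sub_iff_add_eq, ← adamsOp_intCast hK j hj (m : ℤ), ← adamsOp_add, hzdef, Int.cast_natCast,
        sub_add_cancel]
    rw [ez, Int.cast_natCast, map_sub, chnat, Finset.sum_sub_distrib]
    congr 1
    · show Phi ι d _ = _
      rw [Phi_ch_adams ι d hK j hj e che]
      simp only [map_sum, y, ← map_pow, expS_pow]
    · simp
  have chD : ∀ a, ch (D a z) = (-1) ^ a * ∑ i, (y i - 1) ^ (a + 1) := by
    intro a
    rw [Finset.mul_sum]
    simp only [← sum_choose_pow_sub_one]
    rw [D, map_sum, Finset.sum_comm (s := univ)]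
    refine Finset.sum_congr rfl fun k _ => ?_
    rw [← Finset.mul_sum, ← chadams (k + 1) (by omega),
      show ((-1 : K) ^ k * ((a + 1).choose (k + 1) : K)) * adamsOp (k + 1) z =
        ((-1 : ℤ) ^ k * ((a + 1).choose (k + 1) : ℤ)) • adamsOp (k + 1) z by
          rw [zsmul_eq_mul]; push_cast; rfl,
      map_zsmul, zsmul_eq_mul]
    push_cast
    rfl
  have chgamma : ∀ n, ch (gamma n z) = ((univ : Finset (Fin m)).val.map fun i => y i - 1).esymm n := by
    intro n
    rw [esymm_map_eq_E]
    refine eq_E _ (fun n => ch (gamma n z)) n ?_ (fun j _ => ?_) n le_rfl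
    · rw [gamma_zero]; simpa using chnat 1
    · rw [← chnat, ← chmul, gamma_succ_newton, map_sum]
      refine Finset.sum_congr rfl fun a _ => ?_
      rw [chmul]
      exact congrArg (· * _) (chD a)
  have chdet : ch (LambdaOps.lam m e) = ∏ i, y i := by
    have h := lam_top_eq_sum_gamma hS e he
    rw [hm] at h
    rw [h, map_sum, Finset.sum_congr rfl fun k _ => chgamma k,
      show ∏ i, y i = ∏ i, (1 + (y i - 1)) by simp,
      Finset.prod_one_add, Finset.powerset_card_disjiUnion, Finset.sum_disjiUnion,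
      Finset.card_univ, Fintype.card_fin]
    exact Finset.sum_congr rfl fun k _ => Finset.esymm_map_val _ _ _
  have chtop : ch (gamma m z) = ∏ i, (y i - 1) := by
    rw [chgamma, Finset.esymm_map_val,
      show (univ : Finset (Fin m)).powersetCard m = {univ} by
        simpa using Finset.powersetCard_self (univ : Finset (Fin m))]
    simp
  have chlam : ch (∑ i ∈ range (m + 1), (-1 : K) ^ i * LambdaOps.lam i (inv e)) * ∏ i, y i = ∏ i, (y i - 1) := by
    have h := gamma_eq_lamAlt_inv hS e he
    rw [hm] at h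
    rw [← chdet, ← chmul, ← h, chtop]
  have htd : Phi ι d (KGr.tdK P d e) = ∏ i, tq d (toddS (w i)) := by
    rw [KGr.tdK, rat_map_aeval (R := KGr.Gr P) (Phi ι d)]
    exact aeval_toddPoly d hmd w _ fun i => hroot (i + 1) (by omega)
  apply Phi_injective ι d hι hd
  refine ((IsUnit.prod_univ_iff.2 fun i => isUnit_tq_expS d (w i)) : IsUnit (∏ i, y i)).mul_right_cancel ?_
  rw [map_mul, mul_assoc, htd, chK_eq]
  change _ * (ch _ * _) = _
  rw [chlam, ← Finset.prod_mul_distrib]
  have hc : Phi ι d (KGr.chern P m e) = ∏ i, rootS d (w i) := by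
    rcases Nat.eq_zero_or_pos m with rfl | hm0
    · have := P.aug_pos e he
      omega
    · rw [hroot m hm0, Finset.esymm_map_val,
        show (univ : Finset (Fin m)).powersetCard m = {univ} by
          simpa using Finset.powersetCard_self (univ : Finset (Fin m))]
      simp
  rw [hc, ← Finset.prod_mul_distrib]
  refine Finset.prod_congr rfl fun i _ => ?_
  simp only [y, rootS, ← map_one (tq d), ← map_sub, ← map_mul, toddS_mul]

end Main

end Groth.Agent.ToddTop12
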